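import Mathlib
import Groth.Agent.H34.Fitting7

/-!
# Finite projective of constant rank after base change, via Fitting ideals (P1)
-/

set_option autoImplicit false
universe u

namespace Groth.Agent.H13.HFS
open TensorProduct Groth.Agent.H34

/-- finite projective of constant rank = locally free of that rank on basic opens. -/
theorem proj_rank_iff_locallyFree (B : Type u) [CommRing B] (NB : Type u) [AddCommGroup NB]
    [Module B NB] [Module.FinitePresentation B NB] (r : ℕ) :
    (Module.Finite B NB ∧ Module.Projective B NB ∧
        ∀ p : PrimeSpectrum B, Module.rankAtStalk NB p = r) ↔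
    (∀ (p : Ideal B) [p.IsPrime], ∃ f : B, f ∉ p ∧
      Module.Free (Localization.Away f) (LocalizedModule (Submonoid.powers f) NB) ∧
        Module.finrank (Localization.Away f) (LocalizedModule (Submonoid.powers f) NB) = r) := by
  classical
  constructor
  · rintro ⟨hfin, hproj, hrank⟩ p hp
    have hmem : (⟨p, hp⟩ : PrimeSpectrum B) ∈ Module.freeLocus B NB := by
      rw [Module.freeLocus_eq_univ]
      trivial
    have hfree : Module.Free (Localization.AtPrime p)
        (LocalizedModule p.primeCompl NB) := Module.mem_freeLocus.mp hmem
    obtain ⟨f, hf, hf1, hf2⟩ := Module.FinitePresentation.exists_free_localizedModule_powers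
      p.primeCompl (LocalizedModule.mkLinearMap p.primeCompl NB) (Localization.AtPrime p)
    exact ⟨f, hf, hf1, hf2.trans (hrank ⟨p, hp⟩)⟩
  · intro H
    have hproj : Module.Projective B NB := by
      rw [← Module.freeLocus_eq_univ_iff, Set.eq_univ_iff_forall]
      intro p
      obtain ⟨f, hf, hf1, hf2⟩ := H p.asIdeal
      have hsub : (PrimeSpectrum.basicOpen f : Set (PrimeSpectrum B)) ⊆
          Module.freeLocus B NB :=
        Module.basicOpen_subset_freeLocus_iff.mpr Module.Projective.of_free
      exact hsub hf
    refine ⟨inferInstance, hproj, fun p => ?_⟩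
    obtain ⟨f, hf, hf1, hf2⟩ := H p.asIdeal
    have hp : p ∈ Set.range (PrimeSpectrum.comap (algebraMap B (Localization.Away f))) := by
      rw [PrimeSpectrum.localization_away_comap_range (Localization.Away f) f]
      exact hf
    obtain ⟨p', rfl⟩ := hp
    have h1 := Module.rankAtStalk_baseChange (R := B) (M := NB)
      (S := Localization.Away f) p'
    have e : (Localization.Away f ⊗[B] NB) ≃ₗ[Localization.Away f]
        LocalizedModule (Submonoid.powers f) NB :=
      (LocalizedModule.equivTensorProduct (Submonoid.powers f) NB).symm
    have h2 := Module.rankAtStalk_eq_of_equiv (R := Localization.Away f) e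
    have h3 := Module.rankAtStalk_eq_finrank_of_free (R := Localization.Away f)
      (M := LocalizedModule (Submonoid.powers f) NB)
    have h4 := congrFun h2 p'
    rw [h3] at h4
    change Module.rankAtStalk NB (PrimeSpectrum.comap (algebraMap B (Localization.Away f)) p') = r
    rw [← h1, h4]
    simpa using hf2

/-- (P1) finite projective of constant rank `r` after base change, in terms of Fitting ideals. -/
theorem proj_rank_iff_fitt (A : Type u) [CommRing A] [IsNoetherianRing A]
    (N : Type u) [AddCommGroup N] [Module A N] [Module.Finite A N] (r : ℕ)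
    (B : Type u) [CommRing B] [Algebra A B] :
    (Module.Finite B (B ⊗[A] N) ∧ Module.Projective B (B ⊗[A] N) ∧
        ∀ p : PrimeSpectrum B, Module.rankAtStalk (B ⊗[A] N) p = r) ↔
      ((∀ k, k < r → (Fitt.ideal A N k).map (algebraMap A B) = ⊥) ∧
        (Fitt.ideal A N r).map (algebraMap A B) = ⊤) := by
  classical
  have hFPA : Module.FinitePresentation A N := Module.finitePresentation_of_finite A N
  have hFP : Module.FinitePresentation B (B ⊗[A] N) := inferInstance
  rw [proj_rank_iff_locallyFree B (B ⊗[A] N) r, Fit.locallyFree_iff_fittIdeal]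
  simp only [Fit.fittIdeal_baseChange]
  constructor
  · rintro ⟨h1, h2⟩
    exact ⟨h1, h2 r le_rfl⟩
  · rintro ⟨h1, h2⟩
    refine ⟨h1, fun k hk => ?_⟩
    have := Ideal.map_mono (f := algebraMap A B) (Fit.fittIdeal_mono (R := A) (M := N) hk)
    rw [h2] at this
    exact top_le_iff.mp this

end Groth.Agent.H13.HFS
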