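import Mathlib
import Groth.Agent.H13.HFS.P1
import Groth.Agent.H11.NormFlat

/-! (P3') for S13456: generic openness of all Fitting conditions of the graded pieces at once. -/

set_option autoImplicit false
universe u

namespace Groth.Agent.H13.HFS
open TensorProduct Groth.Agent.H34 Groth.Agent.H11

/-- If `M ⧸ p M` is generically free over `A ⧸ p` w.r.t. `g = f mod p`, then the base change of `M`
to `(A ⧸ p)_g` is free. -/
theorem free_baseChange_of_gfree {A : Type u} [CommRing A] (p : Ideal A) (f : A)
    (M : Type u) [AddCommGroup M] [Module A M]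
    (hG : GFree (A ⧸ p) (M ⧸ (p • ⊤ : Submodule A M)) (Ideal.Quotient.mk p f)) :
    Module.Free (Localization.Away (Ideal.Quotient.mk p f))
      (Localization.Away (Ideal.Quotient.mk p f) ⊗[A] M) := by
  set g := Ideal.Quotient.mk p f with hg
  let φ1 : M →ₗ[A] (M ⧸ (p • ⊤ : Submodule A M)) := Submodule.mkQ _
  have h1 : IsBaseChange (A ⧸ p) φ1 := by
    refine IsBaseChange.of_equiv
      ((TensorProduct.quotTensorEquivQuotSMul M p).extendScalarsOfSurjective
        Ideal.Quotient.mk_surjective) (fun x => ?_)
    simp [φ1]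
  let φ2 : (M ⧸ (p • ⊤ : Submodule A M)) →ₗ[A ⧸ p]
      Localization.Away g ⊗[A ⧸ p] (M ⧸ (p • ⊤ : Submodule A M)) :=
    TensorProduct.mk (A ⧸ p) (Localization.Away g) _ 1
  have h2 : IsBaseChange (Localization.Away g) φ2 := TensorProduct.isBaseChange _ _ _
  haveI : IsLocalizedModule (Submonoid.powers g) φ2 :=
    (isLocalizedModule_iff_isBaseChange (Submonoid.powers g) (Localization.Away g) φ2).mpr h2
  haveI : Module.Free (Localization.Away g)
      (Localization.Away g ⊗[A ⧸ p] (M ⧸ (p • ⊤ : Submodule A M))) :=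
    hG.free_of_isLocalizedModule φ2
  have h3 := IsBaseChange.comp h1 h2
  exact Module.Free.of_equiv h3.equiv.symm


/-- (P3') generic openness of all Fitting conditions at once. -/
theorem exists_generic_fitt (A : Type u) [CommRing A] [IsNoetherianRing A]
    (R : Type u) [CommRing R] [Algebra A R] [Algebra.FiniteType A R]
    (M : Type u) [AddCommGroup M] [Module A M] [Module R M] [IsScalarTower A R M]
    [Module.Finite R M]
    (ℳ : ℤ → Submodule A M) [DirectSum.Decomposition ℳ]
    (hfg : ∀ v : ℤ, Module.Finite A ↥(ℳ v)) (p : Ideal A) [p.IsPrime] :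
    ∃ f : A, f ∉ p ∧ ∀ (q : Ideal A) [q.IsPrime], p ≤ q → f ∉ q → ∀ (v : ℤ) (k : ℕ),
      ¬ Fitt.ideal A ↥(ℳ v) k ≤ p → ¬ Fitt.ideal A ↥(ℳ v) k ≤ q := by
  classical
  obtain ⟨f, hf, hG⟩ := NormFlat.exists_gfree_quot p R M
  refine ⟨f, hf, fun q _ hpq hfq v k hk hkq => ?_⟩
  have _inst := hfg v
  haveI : Module.FinitePresentation A ↥(ℳ v) := Module.finitePresentation_of_finite A _
  set g := Ideal.Quotient.mk p f with hg
  have hg0 : g ≠ 0 := fun h0 => hf (Ideal.Quotient.eq_zero_iff_mem.mp h0)
  have hle : Submonoid.powers g ≤ nonZeroDivisors (A ⧸ p) :=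
    powers_le_nonZeroDivisors_of_noZeroDivisors hg0
  haveI : IsDomain (Localization.Away g) := IsLocalization.isDomain_localization hle
  haveI hfree : Module.Free (Localization.Away g) (Localization.Away g ⊗[A] M) :=
    free_baseChange_of_gfree p f M hG
  -- the retraction
  let i : ↥(ℳ v) →ₗ[A] M := (ℳ v).subtype
  let π : M →ₗ[A] ↥(ℳ v) :=
    (DirectSum.component A ℤ (fun j => ↥(ℳ j)) v) ∘ₗ (DirectSum.decomposeLinearEquiv ℳ).toLinearMap
  have hπi : π ∘ₗ i = LinearMap.id := by
    apply LinearMap.ext
    intro x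
    apply Subtype.ext
    simp only [π, i, LinearMap.comp_apply, LinearEquiv.coe_coe, Submodule.subtype_apply,
      LinearMap.id_apply]
    exact DirectSum.decompose_of_mem_same ℳ x.2
  haveI hproj : Module.Projective (Localization.Away g) (Localization.Away g ⊗[A] ↥(ℳ v)) := by
    refine Module.Projective.of_split (LinearMap.baseChange (Localization.Away g) i)
      (LinearMap.baseChange (Localization.Away g) π) ?_
    rw [← LinearMap.baseChange_comp, hπi, LinearMap.baseChange_id]
  -- constant rank
  let P0 : PrimeSpectrum (Localization.Away g) := ⟨⊥, Ideal.isPrime_bot⟩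
  set r := Module.rankAtStalk (R := Localization.Away g) (Localization.Away g ⊗[A] ↥(ℳ v)) P0
    with hr
  have hrank : ∀ P : PrimeSpectrum (Localization.Away g),
      Module.rankAtStalk (Localization.Away g ⊗[A] ↥(ℳ v)) P = r := fun P =>
    (Module.isLocallyConstant_rankAtStalk (R := Localization.Away g)
      (M := Localization.Away g ⊗[A] ↥(ℳ v))).apply_eq_of_preconnectedSpace P P0
  obtain ⟨hlow, htop⟩ := (proj_rank_iff_fitt A ↥(ℳ v) r (Localization.Away g)).mp
    ⟨inferInstance, hproj, hrank⟩
  have hinj : Function.Injective (algebraMap (A ⧸ p) (Localization.Away g)) :=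
    IsLocalization.injective _ hle
  by_cases hkr : k < r
  · apply hk
    intro x hx
    have h0 : algebraMap A (Localization.Away g) x = 0 := by
      have : algebraMap A (Localization.Away g) x ∈
          (Fitt.ideal A ↥(ℳ v) k).map (algebraMap A (Localization.Away g)) :=
        Ideal.mem_map_of_mem _ hx
      rw [hlow k hkr] at this
      exact this
    rw [IsScalarTower.algebraMap_apply A (A ⧸ p) (Localization.Away g)] at h0
    have h1 := hinj (h0.trans (map_zero _).symm)
    exact Ideal.Quotient.eq_zero_iff_mem.mp h1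
  · have hk' : (Fitt.ideal A ↥(ℳ v) k).map (algebraMap A (Localization.Away g)) = ⊤ :=
      top_le_iff.mp (htop ▸ Ideal.map_mono (Fit.fittIdeal_mono (not_lt.mp hkr)))
    let ψ : (A ⧸ p) →+* q.ResidueField :=
      Ideal.Quotient.lift p (algebraMap A q.ResidueField) (fun a ha => by
        rw [Ideal.algebraMap_residueField_eq_zero]; exact hpq ha)
    have hu : IsUnit (ψ g) := by
      have : ψ g = algebraMap A q.ResidueField f := by simp [ψ, hg]
      rw [this]
      exact IsUnit.mk0 _ (fun h0 => hfq (Ideal.algebraMap_residueField_eq_zero.mp h0))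
    let χ : Localization.Away g →+* q.ResidueField := IsLocalization.Away.lift g hu
    have hχ : χ.comp (algebraMap A (Localization.Away g)) = algebraMap A q.ResidueField := by
      ext a
      rw [RingHom.comp_apply, IsScalarTower.algebraMap_apply A (A ⧸ p) (Localization.Away g)]
      simp [χ, ψ, IsLocalization.Away.lift_eq]
    have h1 : (Fitt.ideal A ↥(ℳ v) k).map (algebraMap A q.ResidueField) = ⊤ := by
      rw [← hχ, ← Ideal.map_map, hk', Ideal.map_top]
    have h2 : (Fitt.ideal A ↥(ℳ v) k).map (algebraMap A q.ResidueField) ≤ ⊥ := by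
      rw [Ideal.map_le_iff_le_comap]
      intro x hx
      rw [Ideal.mem_comap, Ideal.mem_bot, Ideal.algebraMap_residueField_eq_zero]
      exact hkq hx
    rw [h1] at h2
    exact bot_ne_top (top_le_iff.mp h2)

end Groth.Agent.H13.HFS
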