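import Mathlib

/-!
# A Noetherian induction for families of opens (P4)
-/

set_option autoImplicit false
universe u

namespace Groth.Agent.H13.HFS

/-- (P4) Noetherian induction: a family of opens `D(b v)` whose intersection contains a nonempty
open of the closure of each of its points is cut out by finitely many members. -/
theorem exists_finset_of_generic {A : Type u} [CommRing A] [IsNoetherianRing A] {ι : Type*}
    (b : ι → Ideal A)
    (hgen : ∀ (p : Ideal A) [p.IsPrime], (∀ v, ¬ b v ≤ p) →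
      ∃ f : A, f ∉ p ∧ ∀ (q : Ideal A) [q.IsPrime], p ≤ q → f ∉ q → ∀ v, ¬ b v ≤ q) :
    ∃ F : Finset ι, ∀ (q : Ideal A) [q.IsPrime], (∀ v ∈ F, ¬ b v ≤ q) → ∀ v, ¬ b v ≤ q := by
  classical
  have key : ∀ I : Ideal A, ∃ F : Finset ι, ∀ (q : Ideal A) [q.IsPrime], I ≤ q →
      (∀ v ∈ F, ¬ b v ≤ q) → ∀ v, ¬ b v ≤ q := by
    intro I
    refine IsNoetherian.induction (R := A) (M := A) (P := fun I : Ideal A =>
      ∃ F : Finset ι, ∀ (q : Ideal A) [q.IsPrime], I ≤ q →
        (∀ v ∈ F, ¬ b v ≤ q) → ∀ v, ¬ b v ≤ q) ?_ I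
    intro (I : Ideal A) ih
    by_cases htop : I = ⊤
    · refine ⟨∅, fun q hq hle => ?_⟩
      rw [htop] at hle
      exact absurd (top_le_iff.mp hle) hq.ne_top
    by_cases hprime : I.IsPrime
    · by_cases hex : ∃ v0, b v0 ≤ I
      · obtain ⟨v0, hv0⟩ := hex
        refine ⟨{v0}, fun q _ hle hF => ?_⟩
        exact absurd (hv0.trans hle) (hF v0 (Finset.mem_singleton_self v0))
      · push Not at hex
        obtain ⟨f, hf, hfq⟩ := hgen I hex
        have hlt : I < I ⊔ Ideal.span {f} := by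
          refine lt_of_le_of_ne le_sup_left fun heq => hf ?_
          rw [heq]
          exact Ideal.mem_sup_right (Ideal.mem_span_singleton_self f)
        obtain ⟨F', hF'⟩ := ih _ hlt
        refine ⟨F', fun q _ hle hF => ?_⟩
        by_cases hfq' : f ∈ q
        · exact hF' q (sup_le hle ((Ideal.span_singleton_le_iff_mem q).mpr hfq')) hF
        · exact hfq q hle hfq'
    · have hfin : I.minimalPrimes.Finite := Ideal.finite_minimalPrimes_of_isNoetherianRing A I
      have hlt : ∀ p ∈ I.minimalPrimes, I < p := by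
        intro p hp
        refine lt_of_le_of_ne hp.1.2 fun heq => hprime ?_
        rw [heq]
        exact hp.1.1
      have hgood : ∀ p : I.minimalPrimes, ∃ F : Finset ι, ∀ (q : Ideal A) [q.IsPrime], p.1 ≤ q →
          (∀ v ∈ F, ¬ b v ≤ q) → ∀ v, ¬ b v ≤ q := fun p => ih p.1 (hlt p.1 p.2)
      choose Fp hFp using hgood
      have : Fintype I.minimalPrimes := hfin.fintype
      refine ⟨Finset.univ.biUnion Fp, fun q _ hle hF => ?_⟩
      obtain ⟨p, hp, hpq⟩ := Ideal.exists_minimalPrimes_le hle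
      exact hFp ⟨p, hp⟩ q hpq fun v hv =>
        hF v (Finset.mem_biUnion.mpr ⟨⟨p, hp⟩, Finset.mem_univ _, hv⟩)
  obtain ⟨F, hF⟩ := key ⊥
  exact ⟨F, fun q _ => hF q bot_le⟩

end Groth.Agent.H13.HFS
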