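import Mathlib
import Groth.Agent.H13.HFS.P1
import Groth.Agent.H13.HFS.P3
import Groth.Agent.H13.HFS.P4
import Groth.Agent.H34.Fitting7

set_option autoImplicit false
universe u

namespace Groth.Agent.H13.HFS
open TensorProduct Groth.Agent.H34

theorem strata_main
    (A : Type u) [CommRing A] [IsNoetherianRing A]
    (R : Type u) [CommRing R] [Algebra A R] [Algebra.FiniteType A R]
    (M : Type u) [AddCommGroup M] [Module A M] [Module R M] [IsScalarTower A R M] [Module.Finite R M]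
    (ℳ : ℤ → Submodule A M) [DirectSum.Decomposition ℳ]
    (hfg : ∀ v : ℤ, Module.Finite A ↥(ℳ v)) (h : ℤ → ℕ) :
    ∃ a b : Ideal A, ∀ (B : Type u) [CommRing B] [Algebra A B],
      ((∀ v : ℤ, Module.Finite B (B ⊗[A] ↥(ℳ v)) ∧ Module.Projective B (B ⊗[A] ↥(ℳ v)) ∧
          ∀ p : PrimeSpectrum B, Module.rankAtStalk (B ⊗[A] ↥(ℳ v)) p = h v) ↔
        (Ideal.map (algebraMap A B) a = ⊥ ∧ Ideal.map (algebraMap A B) b = ⊤)) := by
  classical
  have _inst := hfg
  set bv : ℤ → Ideal A := fun v => Fitt.ideal A ↥(ℳ v) (h v) with hbv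
  -- generic hypothesis
  have hgen : ∀ (p : Ideal A) [p.IsPrime], (∀ v, ¬ bv v ≤ p) →
      ∃ f : A, f ∉ p ∧ ∀ (q : Ideal A) [q.IsPrime], p ≤ q → f ∉ q → ∀ v, ¬ bv v ≤ q := by
    intro p _ hp
    obtain ⟨f, hf, hfq⟩ := exists_generic_fitt A R M ℳ hfg p
    exact ⟨f, hf, fun q _ hpq hfq' v => hfq q hpq hfq' v (h v) (hp v)⟩
  obtain ⟨F, hF⟩ := exists_finset_of_generic bv hgen
  refine ⟨⨆ v : ℤ, ⨆ k : Fin (h v), Fitt.ideal A ↥(ℳ v) k, ∏ v ∈ F, bv v, fun B _ _ => ?_⟩
  have hP1 := fun v => proj_rank_iff_fitt A ↥(ℳ v) (h v) B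
  constructor
  · intro H
    constructor
    · rw [Ideal.map_iSup, iSup_eq_bot]
      intro v
      rw [Ideal.map_iSup, iSup_eq_bot]
      intro k
      exact ((hP1 v).mp (H v)).1 k k.2
    · by_contra hne
      obtain ⟨Q, hQ, hle⟩ := Ideal.exists_le_maximal _ hne
      have hQp := hQ.isPrime
      have h1 : ∏ v ∈ F, bv v ≤ Q.comap (algebraMap A B) := Ideal.map_le_iff_le_comap.mp hle
      obtain ⟨v, hv, hvle⟩ := (Ideal.IsPrime.prod_le inferInstance).mp h1
      have h2 := ((hP1 v).mp (H v)).2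
      have h3 : (bv v).map (algebraMap A B) ≤ Q := Ideal.map_le_iff_le_comap.mpr hvle
      rw [hbv] at h3
      simp only at h3
      rw [h2] at h3
      exact hQ.ne_top (top_le_iff.mp h3)
  · rintro ⟨ha, hb⟩ v
    rw [hP1 v]
    constructor
    · intro k hk
      rw [eq_bot_iff, ← ha]
      exact Ideal.map_mono (le_iSup_of_le v (le_iSup_of_le ⟨k, hk⟩ le_rfl))
    · by_contra hne
      obtain ⟨Q, hQ, hle⟩ := Ideal.exists_le_maximal _ hne
      have hQp := hQ.isPrime
      have hq : ¬ ∀ v, ¬ bv v ≤ Q.comap (algebraMap A B) := fun hall =>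
        hall v (Ideal.map_le_iff_le_comap.mp hle)
      apply hq
      apply hF (Q.comap (algebraMap A B))
      intro v' hv' hle'
      have h1 : (∏ v ∈ F, bv v) ≤ Q.comap (algebraMap A B) :=
        (Ideal.prod_le_inf.trans (Finset.inf_le hv')).trans hle'
      have h2 : Ideal.map (algebraMap A B) (∏ v ∈ F, bv v) ≤ Q := Ideal.map_le_iff_le_comap.mpr h1
      rw [hb] at h2
      exact hQ.ne_top (top_le_iff.mp h2)

end Groth.Agent.H13.HFS
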